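import Cfsg.Agent.Lib.Grp.SchurZassenhaus
import Cfsg.Agent.Lib.Invol.GW.Klein.Setup
import Cfsg.Agent.Lib.Transfer.TwoByCyclic

/-!
`π`-homogeneous groups: inheritance, the real element criterion, and the reduction of `π'`-closure along a normal
`π'`-closed subgroup.
-/

set_option autoImplicit false
set_option linter.unusedSectionVars false
set_option linter.style.haveILetI false

namespace Cfsg.Agent.Invol.PiHom

open Subgroup
open scoped _root_.Classical Pointwise

universe u

/-- A set of odd primes. -/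
def OddSet (π : Set ℕ) : Prop := ∀ p ∈ π, p.Prime ∧ p ≠ 2

/-- All prime divisors lie in `π`. -/
def PiNum (π : Set ℕ) (n : ℕ) : Prop := ∀ p : ℕ, p.Prime → p ∣ n → p ∈ π

/-- No prime divisor lies in `π`. -/
def CoPiNum (π : Set ℕ) (n : ℕ) : Prop := ∀ p : ℕ, p.Prime → p ∣ n → p ∉ π

/-- `π`-homogeneity. -/
def Hom (π : Set ℕ) (G : Type u) [Group G] : Prop :=
  ∀ H : Subgroup G, H ≠ ⊥ → PiNum π (Nat.card ↥H) →
    PiNum π ((centralizer (H : Set G)).relIndex (normalizer (H : Set G)))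

/-- The `π'`-elements form a subgroup. -/
def Closed (π : Set ℕ) (G : Type u) [Group G] : Prop :=
  ∃ K : Subgroup G, ∀ x : G, x ∈ K ↔ CoPiNum π (orderOf x)

/-- The 2-subgroups are abelian or dihedral. -/
def TwoShape (G : Type u) [Group G] : Prop :=
  ∀ R : Subgroup G, IsPGroup 2 ↥R → IsMulCommutative ↥R ∨ ∃ m : ℕ, Nonempty (↥R ≃* DihedralGroup (2 ^ m))

variable {π : Set ℕ}

theorem OddSet.odd_of_pi (hπ : OddSet π) {n : ℕ} (h : PiNum π n) : Odd n :=
  Nat.odd_iff.2 (Nat.two_dvd_ne_zero.1 fun h2 => (hπ 2 (h 2 Nat.prime_two h2)).2 rfl)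

theorem coprime_of_piNum {a b : ℕ} (ha : PiNum π a) (hb : CoPiNum π b) : a.Coprime b :=
  Nat.coprime_of_dvd fun p hp hpa hpb => hb p hp hpb (ha p hp hpa)

theorem PiNum.of_dvd {a b : ℕ} (h : PiNum π b) (hd : a ∣ b) : PiNum π a := fun p hp hpa => h p hp (hpa.trans hd)

theorem CoPiNum.of_dvd {a b : ℕ} (h : CoPiNum π b) (hd : a ∣ b) : CoPiNum π a :=
  fun p hp hpa => h p hp (hpa.trans hd)

theorem PiNum.mul {a b : ℕ} (ha : PiNum π a) (hb : PiNum π b) : PiNum π (a * b) :=
  fun p hp h => (hp.dvd_mul.1 h).elim (ha p hp) (hb p hp)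

theorem CoPiNum.mul {a b : ℕ} (ha : CoPiNum π a) (hb : CoPiNum π b) : CoPiNum π (a * b) :=
  fun p hp h => (hp.dvd_mul.1 h).elim (ha p hp) (hb p hp)

theorem piNum_one : PiNum π 1 := fun p hp h => absurd h hp.not_dvd_one

theorem coPiNum_one : CoPiNum π 1 := fun p hp h => absurd h hp.not_dvd_one

variable {G : Type u} [Group G] [Finite G]

/-- A normaliser element that is a `π'`-element centralises. -/
theorem Hom.cent_of_coPi (hh : Hom π G) {H : Subgroup G} (hH : PiNum π (Nat.card ↥H)) {d : G}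
    (hd : d ∈ normalizer (H : Set G)) (hdo : CoPiNum π (orderOf d)) : d ∈ centralizer (H : Set G) := by
  by_cases hb : H = ⊥
  · subst hb
    refine mem_centralizer_iff.2 fun h hh' => ?_
    rw [SetLike.mem_coe, mem_bot] at hh'
    rw [hh', one_mul, mul_one]
  set N := normalizer (H : Set G)
  set C := centralizer (H : Set G)
  haveI hCN : (C.subgroupOf N).Normal := by
    rw [show C.subgroupOf N = H.normalizerMonoidHom.ker from (H.normalizerMonoidHom_ker).symm]
    infer_instance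
  have h1 : orderOf (QuotientGroup.mk' (C.subgroupOf N) ⟨d, hd⟩) ∣ orderOf d := by
    rw [← Subgroup.orderOf_mk d hd]
    exact orderOf_map_dvd _ _
  have h2 : orderOf (QuotientGroup.mk' (C.subgroupOf N) ⟨d, hd⟩) ∣ C.relIndex N := _root_.orderOf_dvd_natCard _
  have h3 := Nat.eq_one_of_dvd_coprimes (coprime_of_piNum (hh H hb hH) hdo) h2 h1
  rw [orderOf_eq_one_iff, QuotientGroup.mk'_apply, QuotientGroup.eq_one_iff, mem_subgroupOf] at h3
  exact h3

/-- A nontrivial `π`-element is not conjugate to its inverse. -/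
theorem Hom.not_real (hh : Hom π G) (hπ : OddSet π) {x g : G} (hx : x ≠ 1) (hxo : PiNum π (orderOf x))
    (hg : g * x * g⁻¹ = x⁻¹) : False := by
  have hgn : ∀ h ∈ zpowers x, g * h * g⁻¹ ∈ zpowers x := by
    intro h hh'
    obtain ⟨i, rfl⟩ := mem_zpowers_iff.1 hh'
    rw [← conj_zpow, hg]
    exact zpow_mem (inv_mem (mem_zpowers x)) i
  have hN : g ∈ normalizer (zpowers x : Set G) := by
    refine mem_normalizer_iff.2 fun h => ⟨hgn h, fun h2 => ?_⟩
    obtain ⟨i, hi⟩ := mem_zpowers_iff.1 h2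
    refine mem_zpowers_iff.2 ⟨-i, (MulAut.conj g).injective ?_⟩
    show g * x ^ (-i) * g⁻¹ = g * h * g⁻¹
    rw [← conj_zpow, hg, ← hi]
    group
  -- an element of 2-power order with the same effect
  obtain ⟨a, b, hb, hab⟩ := Nat.exists_eq_pow_mul_and_not_dvd (orderOf_pos g).ne' 2 (by norm_num)
  have hodd : ∀ j : ℕ, Odd j → g ^ j * x * (g ^ j)⁻¹ = x⁻¹ := by
    intro j hj
    obtain ⟨i, rfl⟩ := hj
    induction i with
    | zero => simpa using hg
    | succ i ih =>
      calc g ^ (2 * (i + 1) + 1) * x * (g ^ (2 * (i + 1) + 1))⁻¹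
          = g * (g * (g ^ (2 * i + 1) * x * (g ^ (2 * i + 1))⁻¹) * g⁻¹) * g⁻¹ := by
            rw [show 2 * (i + 1) + 1 = 2 + (2 * i + 1) by ring, pow_add, pow_two]; group
        _ = x⁻¹ := by rw [ih, ← conj_inv, hg, inv_inv, hg]
  have hz : PiNum π (Nat.card ↥(zpowers x)) := by rwa [Nat.card_zpowers]
  have hco : CoPiNum π (orderOf (g ^ b)) := by
    intro p hp hpd hpπ
    have h2 : orderOf (g ^ b) ∣ 2 ^ a := orderOf_dvd_of_pow_eq_one (by
      rw [← pow_mul, mul_comm, ← hab, pow_orderOf_eq_one])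
    exact (hπ p hpπ).2 ((Nat.prime_dvd_prime_iff_eq hp Nat.prime_two).1 (hp.dvd_of_dvd_pow (hpd.trans h2)))
  have hc := hh.cent_of_coPi hz (pow_mem hN b) hco
  have h := mem_centralizer_iff.1 hc x (mem_zpowers x)
  have hinv := hodd b (Nat.odd_iff.2 (Nat.two_dvd_ne_zero.1 hb))
  rw [← h, mul_inv_cancel_right] at hinv
  have h2 : orderOf x = 2 := orderOf_eq_prime (by rw [pow_two]; exact mul_eq_one_iff_eq_inv.2 hinv) hx
  exact (hπ 2 (hxo 2 Nat.prime_two (by rw [h2]))).2 rfl

/-- A normalising element that does not centralise and whose order is inverted away from `π`. -/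
theorem Hom.not_move (hh : Hom π G) (hπ : OddSet π) {H : Subgroup G} (hH : PiNum π (Nat.card ↥H)) {d w : G}
    (hd : d ∈ normalizer (H : Set G)) (hdc : d ∉ centralizer (H : Set G)) (hw : w * d * w⁻¹ = d⁻¹) : False := by
  refine hdc (hh.cent_of_coPi hH hd fun p hp hpd hpπ => ?_)
  haveI := Fact.mk hp
  set x := d ^ (orderOf d / p)
  have hxo : orderOf x = p := orderOf_pow_orderOf_div (orderOf_pos d).ne' hpd
  refine hh.not_real hπ (x := x) (g := w) (fun e => hp.ne_one (by rw [← hxo, e, orderOf_one])) ?_ ?_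
  · intro r hr hrd
    rw [hxo] at hrd
    rwa [(Nat.prime_dvd_prime_iff_eq hr hp).1 hrd]
  · rw [← conj_pow, hw, inv_pow]

omit [Finite G] in
theorem Hom.equiv {H : Type*} [Group H] (e : G ≃* H) (hh : Hom π G) :
    ∀ K : Subgroup H, K ≠ ⊥ → PiNum π (Nat.card ↥K) →
      PiNum π ((centralizer (K : Set H)).relIndex (normalizer (K : Set H))) := by
  intro K hK hc
  set K' := K.map e.symm.toMonoidHom
  have hK' : K' ≠ ⊥ := fun h => hK ((map_eq_bot_iff_of_injective K e.symm.injective).1 h)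
  have hc' : PiNum π (Nat.card ↥K') := by rwa [card_map_of_injective e.symm.injective]
  have e1 : centralizer (K : Set H) = (centralizer (K' : Set G)).map e.toMonoidHom := by
    ext x
    rw [mem_map]
    constructor
    · intro hx
      refine ⟨e.symm x, mem_centralizer_iff.2 ?_, by simp⟩
      rintro _ ⟨k, hk, rfl⟩
      show e.symm k * e.symm x = e.symm x * e.symm k
      rw [← map_mul, ← map_mul, mem_centralizer_iff.1 hx k hk]
    · rintro ⟨y, hy, rfl⟩
      refine mem_centralizer_iff.2 fun k hk => ?_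
      have := congrArg e (mem_centralizer_iff.1 hy (e.symm k) ⟨k, hk, rfl⟩)
      simpa using this
  have e2 : normalizer (K : Set H) = (normalizer (K' : Set G)).map e.toMonoidHom := by
    rw [map_normalizer_eq_of_bijective (f := e.toMonoidHom) _ e.bijective]
    congr 2
    rw [map_map]
    convert (map_id K).symm using 2
    ext x; simp
  rw [e1, e2, relIndex_map_map_of_injective _ _ e.injective]
  exact hh K' hK' hc'

/-- Subgroups inherit homogeneity. -/
theorem Hom.subgroup (hh : Hom π G) (X : Subgroup G) : Hom π ↥X := by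
  intro H hH hc
  set H' := H.map X.subtype
  have hH' : H' ≠ ⊥ := fun h => hH ((map_eq_bot_iff_of_injective H X.subtype_injective).1 h)
  have hc' : PiNum π (Nat.card ↥H') := by rwa [card_map_of_injective X.subtype_injective]
  refine (hh H' hH' hc').of_dvd ?_
  have e1 : (normalizer (H : Set ↥X)).map X.subtype ≤ normalizer (H' : Set G) := le_normalizer_map _
  have e2 : (centralizer (H : Set ↥X)).map X.subtype = centralizer (H' : Set G) ⊓ (normalizer (H : Set ↥X)).map X.subtype := by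
    ext x
    constructor
    · rintro ⟨y, hy, rfl⟩
      refine ⟨mem_centralizer_iff.2 ?_, ⟨y, centralizer_le_normalizer _ hy, rfl⟩⟩
      rintro _ ⟨k, hk, rfl⟩
      exact congrArg Subtype.val (mem_centralizer_iff.1 hy k hk)
    · rintro ⟨hc1, y, -, rfl⟩
      exact ⟨y, mem_centralizer_iff.2 fun k hk => Subtype.ext (mem_centralizer_iff.1 hc1 k ⟨k, hk, rfl⟩), rfl⟩
  rw [← relIndex_map_map_of_injective _ _ X.subtype_injective, e2, inf_relIndex_right]
  haveI : ((centralizer (H' : Set G)).subgroupOf (normalizer (H' : Set G))).Normal := by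
    rw [show (centralizer (H' : Set G)).subgroupOf (normalizer (H' : Set G)) = H'.normalizerMonoidHom.ker from
      (H'.normalizerMonoidHom_ker).symm]
    infer_instance
  have := relIndex_dvd_index_of_normal ((centralizer (H' : Set G)).subgroupOf (normalizer (H' : Set G)))
    (((normalizer (H : Set ↥X)).map X.subtype).subgroupOf (normalizer (H' : Set G)))
  rwa [relIndex_subgroupOf e1] at this

/-- The shape of the 2-subgroups from the Sylow subgroups. -/
theorem twoShape_of_sylow (h2 : ∀ S : Sylow 2 G, IsMulCommutative S ∨ ∃ n : ℕ,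
    Nonempty ((S : Subgroup G) ≃* DihedralGroup n)) : TwoShape G := by
  intro R hR
  haveI : Fact (Nat.Prime 2) := ⟨Nat.prime_two⟩
  obtain ⟨S, hS⟩ := hR.exists_le_sylow
  rcases h2 S with hc | ⟨n, ⟨e⟩⟩
  · exact Or.inl ⟨⟨fun a b => Subtype.ext (show (a : G) * b = b * a from
      congrArg (fun z : ↥(S : Subgroup G) => (z : G)) (hc.is_comm.comm ⟨a, hS a.2⟩ ⟨b, hS b.2⟩))⟩⟩
  obtain ⟨k, hk⟩ := IsPGroup.iff_card.1 S.isPGroup'
  rw [Nat.card_congr e.toEquiv, DihedralGroup.nat_card] at hk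
  obtain ⟨j, rfl⟩ : ∃ j, k = j + 1 := ⟨k - 1, by
    rcases Nat.eq_zero_or_pos k with rfl | h
    · omega
    · omega⟩
  obtain rfl : n = 2 ^ j := by rw [pow_succ] at hk; omega
  let f : ↥(R.subgroupOf (S : Subgroup G)) ≃* ↥R := subgroupOfEquivOfLe hS
  rcases Transfer.TwoByCyclic.dihedral_subgroup e (R.subgroupOf (S : Subgroup G)) with hc | ⟨i, ⟨g⟩⟩
  · haveI := f.isCyclic.1 hc
    exact Or.inl ⟨⟨fun a b => mul_comm' a b⟩⟩
  · exact Or.inr ⟨i, ⟨f.symm.trans g⟩⟩

omit [Finite G] in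
theorem TwoShape.subgroup (h : TwoShape G) (X : Subgroup G) : TwoShape ↥X := by
  intro R hR
  let f : ↥R ≃* ↥(R.map X.subtype) := equivMapOfInjective R X.subtype X.subtype_injective
  rcases h (R.map X.subtype) (hR.map _) with hc | ⟨m, ⟨e⟩⟩
  · exact Or.inl ⟨⟨fun a b => f.injective (by rw [map_mul, map_mul]; exact hc.is_comm.comm _ _)⟩⟩
  · exact Or.inr ⟨m, ⟨f.trans e⟩⟩

/-- A normal `π'`-subgroup with `π`-index gives closure. -/
theorem closed_of {K : Subgroup G} [K.Normal] (hK : CoPiNum π (Nat.card ↥K)) (hi : PiNum π K.index) : Closed π G := by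
  refine ⟨K, fun x => ⟨fun hx => hK.of_dvd (Subgroup.orderOf_dvd_natCard _ hx), fun hx => ?_⟩⟩
  have h1 : orderOf (QuotientGroup.mk' K x) ∣ orderOf x := orderOf_map_dvd _ _
  have h2 : orderOf (QuotientGroup.mk' K x) ∣ K.index := _root_.orderOf_dvd_natCard _
  have h3 := Nat.eq_one_of_dvd_coprimes (coprime_of_piNum hi hx) h2 h1
  rwa [orderOf_eq_one_iff, QuotientGroup.mk'_apply, QuotientGroup.eq_one_iff] at h3

/-- The subgroup of a closed group. -/
theorem closed_elim (h : Closed π G) :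
    ∃ K : Subgroup G, K.Characteristic ∧ CoPiNum π (Nat.card ↥K) ∧ PiNum π K.index := by
  obtain ⟨K, hK⟩ := h
  have hchar : K.Characteristic := characteristic_iff_comap_eq.2 fun f => by
    ext x
    rw [mem_comap, hK, hK]
    show CoPiNum π (orderOf (f x)) ↔ _
    rw [MulEquiv.orderOf_eq]
  refine ⟨K, hchar, fun p hp hpd => ?_, fun p hp hpd => ?_⟩
  · haveI := Fact.mk hp
    obtain ⟨x, hx⟩ := exists_prime_orderOf_dvd_card' p hpd
    exact (hK x).1 x.2 p hp (by rw [Subgroup.orderOf_coe, hx])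
  · by_contra hpπ
    haveI := Fact.mk hp
    haveI := hchar
    obtain ⟨y, hy⟩ := exists_prime_orderOf_dvd_card' (G := G ⧸ K) p hpd
    obtain ⟨x, rfl⟩ := QuotientGroup.mk'_surjective K y
    obtain ⟨a, m, hm, ham⟩ := Nat.exists_eq_pow_mul_and_not_dvd (orderOf_pos x).ne' p hp.ne_one
    have hxm : x ^ m ∈ K := (hK _).2 fun r hr hrd => by
      have h2 : orderOf (x ^ m) ∣ p ^ a := orderOf_dvd_of_pow_eq_one (by
        rw [← pow_mul, mul_comm, ← ham, pow_orderOf_eq_one])
      rwa [(Nat.prime_dvd_prime_iff_eq hr hp).1 (hr.dvd_of_dvd_pow (hrd.trans h2))]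
    refine hm (hy ▸ orderOf_dvd_of_pow_eq_one ?_)
    rw [← map_pow, QuotientGroup.mk'_apply, QuotientGroup.eq_one_iff]
    exact hxm

end Cfsg.Agent.Invol.PiHom
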