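import Cfsg.Agent.Lib.Invol.PiHom.Basic
import Cfsg.Agent.Lib.Classical.DicksonTorus
import Cfsg.Agent.Lib.Invol.AbelTwo.ReeAbel.Psl
import Cfsg.Agent.Lib.Recog.JOneSquare.Facts

/-!
`L₂(q)`, `A₇` and `J₁` have no homogeneity for a nonempty set of odd prime divisors.
-/

set_option autoImplicit false
set_option linter.unusedSectionVars false
set_option linter.style.haveILetI false

namespace Cfsg.Agent.Invol.PiHom

open Subgroup Matrix
open Cfsg.Agent.Grp.SL2 Cfsg.Agent.PSL2Spec
open scoped _root_.Classical MatrixGroups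

set_option maxRecDepth 8000

universe u

variable {π : Set ℕ}

theorem piNum_prime {p n : ℕ} (hp : p.Prime) (hpπ : p ∈ π) (hn : n = p) : PiNum π n := by
  rintro r hr hrd
  rw [hn] at hrd
  rwa [(Nat.prime_dvd_prime_iff_eq hr hp).1 hrd]

theorem Hom.no_real_prime {G : Type u} [Group G] [Finite G] (hh : Hom π G) (hπ : OddSet π) {p : ℕ} (hpπ : p ∈ π)
    {x g : G} (hx : orderOf x = p) (hg : g * x * g⁻¹ = x⁻¹) : False := by
  have hp := (hπ p hpπ).1
  exact hh.not_real hπ (fun e => hp.ne_one (by rw [← hx, e, orderOf_one])) (piNum_prime hp hpπ hx) hg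

section PSL

variable {F : Type} [Field F] [Fintype F]

local notation "PSL₂" => Matrix.ProjectiveSpecialLinearGroup (Fin 2) F
local notation "SL₂" => Matrix.SpecialLinearGroup (Fin 2) F

theorem w_dg (z : Fˣ) :
    (AbelTwo.ReeAbel.wSL : SL₂) * AbelTwo.ReeAbel.dgH z = (AbelTwo.ReeAbel.dgH z)⁻¹ * AbelTwo.ReeAbel.wSL :=
  Subtype.ext (by
    rw [Matrix.SpecialLinearGroup.coe_mul, Matrix.SpecialLinearGroup.coe_mul, Matrix.SpecialLinearGroup.coe_inv,
      AbelTwo.ReeAbel.dgH_coe, AbelTwo.ReeAbel.wSL_coe, Matrix.adjugate_fin_two]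
    ext i j; fin_cases i <;> fin_cases j <;> simp [Matrix.mul_apply, Fin.sum_univ_two])

theorem dg_up (z : Fˣ) (t : F) :
    (AbelTwo.ReeAbel.dgH z : SL₂) * up t = up ((z : F) * z * t) * AbelTwo.ReeAbel.dgH z :=
  Subtype.ext (by
    rw [Matrix.SpecialLinearGroup.coe_mul, Matrix.SpecialLinearGroup.coe_mul, AbelTwo.ReeAbel.up_coe,
      AbelTwo.ReeAbel.up_coe, AbelTwo.ReeAbel.dgH_coe]
    ext i j; fin_cases i <;> fin_cases j <;> simp [Matrix.mul_apply, Fin.sum_univ_two] <;> field_simp)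

theorem coPi_psl (hπ : OddSet π) (h3 : 3 < Fintype.card F) (hh : Hom π PSL₂) :
    CoPiNum π (Nat.card PSL₂) := by
  intro p hp hpd hpπ
  haveI := Fact.mk hp
  obtain ⟨c, hchar⟩ := CharP.exists F
  haveI := hchar
  haveI : Fact c.Prime := ⟨CharP.char_is_prime F c⟩
  by_cases hpc : p = c
  · -- the unipotent subgroup and a torus element
    subst hpc
    have hodd : Odd (Fintype.card F) := Dickson.odd_of_p p (hπ p hpπ).2
    obtain ⟨n, -, hn⟩ := FiniteField.card F p
    let φ : Multiplicative F →* PSL₂ := proj.comp AbelTwo.ReeAbel.upH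
    have hU : PiNum π (Nat.card ↥φ.range) := by
      refine PiNum.of_dvd (b := Fintype.card F) ?_ ?_
      · intro r hr hrd
        rw [hn] at hrd
        rwa [(Nat.prime_dvd_prime_iff_eq hr hp).1 (hr.dvd_of_dvd_pow hrd)]
      · rw [← Nat.card_eq_fintype_card]
        exact Subgroup.card_range_dvd φ
    obtain ⟨z, hz⟩ : ∃ z : Fˣ, ((z : F) * z) ≠ 1 := by
      by_contra hall
      push Not at hall
      have hsub : (Finset.univ : Finset Fˣ) ⊆ {1, -1} := fun z _ => by
        rcases mul_self_eq_one_iff.1 (hall z) with h | h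
        · simp [show z = 1 from Units.ext (by simpa using h)]
        · simp [show z = -1 from Units.ext (by simpa using h)]
      have := (Finset.card_le_card hsub).trans (Finset.card_le_two (a := (1 : Fˣ)) (b := -1))
      rw [Finset.card_univ, Fintype.card_units] at this
      omega
    refine hh.not_move hπ hU (d := proj (AbelTwo.ReeAbel.dgH z)) (w := proj AbelTwo.ReeAbel.wSL) ?_ ?_ ?_
    · refine mem_normalizer_iff.2 fun y => ?_
      have key : ∀ (a : Fˣ) (t : Multiplicative F), proj (AbelTwo.ReeAbel.dgH a) * φ t *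
          (proj (AbelTwo.ReeAbel.dgH a))⁻¹ ∈ φ.range := by
        intro a t
        refine ⟨Multiplicative.ofAdd ((a : F) * a * Multiplicative.toAdd t), ?_⟩
        rw [eq_mul_inv_iff_mul_eq]
        show proj (up _) * proj _ = proj _ * proj (up _)
        rw [← map_mul, ← map_mul, dg_up]
        rfl
      constructor
      · rintro ⟨t, rfl⟩
        exact key z t
      · rintro ⟨t, ht⟩
        have h := key z⁻¹ t
        rw [map_inv AbelTwo.ReeAbel.dgH z, map_inv, inv_inv, ht] at h
        simpa [mul_assoc] using h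
    · intro hcen
      have h := mem_centralizer_iff.1 hcen (proj (up 1)) ⟨Multiplicative.ofAdd 1, rfl⟩
      rw [← map_mul, ← map_mul, dg_up, map_mul, map_mul, mul_one] at h
      have h1 := mul_right_cancel h
      have h2 : proj ((up (1 : F))⁻¹ * up ((z : F) * z)) = 1 := by
        rw [map_mul, map_inv, h1, inv_mul_cancel]
      obtain ⟨d, -, hm⟩ := (proj_eq_one_iff _).1 h2
      rw [Matrix.SpecialLinearGroup.coe_mul, Matrix.SpecialLinearGroup.coe_inv, Matrix.adjugate_fin_two,
        AbelTwo.ReeAbel.up_coe, AbelTwo.ReeAbel.up_coe] at hm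
      have h01 := congrFun (congrFun hm 0) 1
      simp [Matrix.mul_apply, Fin.sum_univ_two] at h01
      exact hz (by linear_combination h01)
    · rw [← map_mul, ← map_inv, ← map_inv, ← map_mul, w_dg, mul_inv_cancel_right]
  · obtain ⟨x, hx⟩ := exists_prime_orderOf_dvd_card' (G := PSL₂) p hpd
    have hx1 : x ≠ 1 := fun e => hp.ne_one (by rw [← hx, e, orderOf_one])
    have hxc : x ^ c ≠ 1 := fun e => hpc ((Nat.prime_dvd_prime_iff_eq hp Fact.out).1
      (hx ▸ orderOf_dvd_of_pow_eq_one e))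
    obtain ⟨g, hgN, hg⟩ := Dickson.exists_flip c hx1 hxc
    have hgN' : g * x * g⁻¹ ∈ Dickson.tor x := ((Dickson.pslData (F := F) c).mem_normalizer_iff hx1).1 hgN
    obtain ⟨-, hinv⟩ := (Dickson.pslData (F := F) c).semi_flip hx1 hxc hgN' hg
    exact hh.no_real_prime hπ hpπ hx (hinv x ((Dickson.pslData (F := F) c).self x))

end PSL

theorem coPi_seven (hπ : OddSet π) (hh : Hom π ↥(alternatingGroup (Fin 7))) :
    CoPiNum π (Nat.card ↥(alternatingGroup (Fin 7))) := by
  intro p hp hpd hpπ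
  haveI := Fact.mk hp
  have hc : Nat.card ↥(alternatingGroup (Fin 7)) = 2520 := by
    haveI : Nontrivial (Fin 7) := inferInstance
    rw [nat_card_alternatingGroup, Nat.card_fin]; decide
  rw [hc] at hpd
  have h5 : p = 2 ∨ p = 3 ∨ p = 5 ∨ p = 7 := by
    have : p ∣ 2 ^ 3 * 3 ^ 2 * 5 * 7 := by norm_num at hpd ⊢; exact hpd
    rcases hp.dvd_mul.1 this with h | h
    · rcases hp.dvd_mul.1 h with h | h
      · rcases hp.dvd_mul.1 h with h | h
        · exact Or.inl ((Nat.prime_dvd_prime_iff_eq hp Nat.prime_two).1 (hp.dvd_of_dvd_pow h))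
        · exact Or.inr (Or.inl ((Nat.prime_dvd_prime_iff_eq hp Nat.prime_three).1 (hp.dvd_of_dvd_pow h)))
      · exact Or.inr (Or.inr (Or.inl ((Nat.prime_dvd_prime_iff_eq hp (by norm_num)).1 h)))
    · exact Or.inr (Or.inr (Or.inr ((Nat.prime_dvd_prime_iff_eq hp (by norm_num)).1 h)))
  let mk (f : Equiv.Perm (Fin 7)) (h : Equiv.Perm.sign f = 1) : ↥(alternatingGroup (Fin 7)) :=
    ⟨f, Equiv.Perm.mem_alternatingGroup.2 h⟩
  rcases h5 with rfl | rfl | rfl | rfl
  · exact (hπ 2 hpπ).2 rfl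
  · refine hh.no_real_prime hπ hpπ (x := mk (Equiv.swap 0 1 * Equiv.swap 1 2) (by decide))
      (g := mk (Equiv.swap 0 1 * Equiv.swap 3 4) (by decide)) (orderOf_eq_prime (Subtype.ext ?_) ?_) (Subtype.ext ?_)
    <;> simp only [mk, ne_eq, Subtype.ext_iff] <;> decide
  · refine hh.no_real_prime hπ hpπ
      (x := mk (Equiv.swap 0 1 * Equiv.swap 1 2 * Equiv.swap 2 3 * Equiv.swap 3 4) (by decide))
      (g := mk (Equiv.swap 1 4 * Equiv.swap 2 3) (by decide)) (orderOf_eq_prime (Subtype.ext ?_) ?_) (Subtype.ext ?_)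
    <;> simp only [mk, ne_eq, Subtype.ext_iff] <;> decide
  · set c := mk (Equiv.swap 0 1 * Equiv.swap 1 2 * Equiv.swap 2 3 * Equiv.swap 3 4 * Equiv.swap 4 5 * Equiv.swap 5 6)
      (by decide) with hcdef
    set d := mk (Equiv.swap 1 2 * Equiv.swap 2 4 * (Equiv.swap 3 6 * Equiv.swap 6 5)) (by decide) with hddef
    set w := mk (Equiv.swap 2 4 * Equiv.swap 6 5) (by decide) with hwdef
    have hc7 : orderOf c = 7 := orderOf_eq_prime (Subtype.ext (by simp only [hcdef, mk]; decide))
      (by simp only [hcdef, mk, ne_eq, Subtype.ext_iff]; decide)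
    have hdc : d * c * d⁻¹ = c ^ 2 := Subtype.ext (by simp only [hcdef, hddef, mk]; decide)
    have hdc' : d⁻¹ * c * d = c ^ 4 := Subtype.ext (by simp only [hcdef, hddef, mk]; decide)
    refine hh.not_move hπ (H := zpowers c) (by rw [Nat.card_zpowers, hc7]; exact piNum_prime hp hpπ rfl) (d := d)
      (w := w) (mem_normalizer_iff.2 fun h => ⟨?_, ?_⟩) ?_ ?_
    · intro hh'
      obtain ⟨i, rfl⟩ := mem_zpowers_iff.1 hh'
      rw [← conj_zpow, hdc]
      exact zpow_mem (pow_mem (mem_zpowers c) 2) i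
    · intro hh'
      obtain ⟨i, hi⟩ := mem_zpowers_iff.1 hh'
      have : h = (d⁻¹ * c * d⁻¹⁻¹) ^ i := by rw [conj_zpow, hi]; group
      rw [this, inv_inv, hdc']
      exact zpow_mem (pow_mem (mem_zpowers c) 4) i
    · intro hcen
      have h := mem_centralizer_iff.1 hcen c (mem_zpowers c)
      rw [← h, mul_inv_cancel_right] at hdc
      have := (mul_eq_left.1 (by rw [← pow_two]; exact hdc.symm) : c = 1)
      rw [this, orderOf_one] at hc7
      omega
    · exact Subtype.ext (by simp only [hddef, hwdef, mk]; decide)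

theorem coPi_j (hπ : OddSet π) (hh : Hom π Recog.JOneSquare.J) : CoPiNum π (Nat.card Recog.JOneSquare.J) := by
  intro p hp hpd hpπ
  haveI := Fact.mk hp
  rw [Recog.JOneSquare.jCard] at hpd
  have hp2 := (hπ p hpπ).2
  have hcases : p = 3 ∨ p = 5 ∨ p = 7 ∨ p = 11 ∨ p = 19 := by
    have h : p ∣ 2 ^ 3 * 3 * 5 * 7 * 11 * 19 := by norm_num at hpd ⊢; exact hpd
    rcases hp.dvd_mul.1 h with h | h
    · rcases hp.dvd_mul.1 h with h | h
      · rcases hp.dvd_mul.1 h with h | h
        · rcases hp.dvd_mul.1 h with h | h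
          · rcases hp.dvd_mul.1 h with h | h
            · exact absurd ((Nat.prime_dvd_prime_iff_eq hp Nat.prime_two).1 (hp.dvd_of_dvd_pow h)) hp2
            · exact Or.inl ((Nat.prime_dvd_prime_iff_eq hp Nat.prime_three).1 h)
          · exact Or.inr (Or.inl ((Nat.prime_dvd_prime_iff_eq hp (by norm_num)).1 h))
        · exact Or.inr (Or.inr (Or.inl ((Nat.prime_dvd_prime_iff_eq hp (by norm_num)).1 h)))
      · exact Or.inr (Or.inr (Or.inr (Or.inl ((Nat.prime_dvd_prime_iff_eq hp (by norm_num)).1 h))))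
    · exact Or.inr (Or.inr (Or.inr (Or.inr ((Nat.prime_dvd_prime_iff_eq hp (by norm_num)).1 h))))
  have small : ∀ a g : Recog.JOneSquare.A5, orderOf a = p → g * a * g⁻¹ = a⁻¹ → False := by
    intro a g ha hg
    obtain ⟨E⟩ := J1Cert.centralizer_equiv
    set f : Recog.JOneSquare.A5 →* Recog.JOneSquare.J :=
      ((Subgroup.subtype _).comp E.symm.toMonoidHom).comp (MonoidHom.inr (Multiplicative (ZMod 2)) Recog.JOneSquare.A5)
    have hf : Function.Injective f :=
      (Subtype.val_injective.comp E.symm.injective).comp fun a b hab => (Prod.ext_iff.1 hab).2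
    exact hh.no_real_prime hπ hpπ (x := f a) (g := f g) (by rw [orderOf_injective f hf, ha])
      (by rw [← map_inv, ← map_mul, ← map_mul, hg, map_inv])
  let mk (f : Equiv.Perm (Fin 5)) (h : Equiv.Perm.sign f = 1) : Recog.JOneSquare.A5 :=
    ⟨f, Equiv.Perm.mem_alternatingGroup.2 h⟩
  have big : Recog.JOneSquare.Big p → False := by
    intro hb
    obtain ⟨y, h, k, ho, hF⟩ := Recog.JOneSquare.jFrob hb
    have h0 : Recog.JOneSquare.jDeg p = 2 * (Recog.JOneSquare.jDeg p / 2) := by
      unfold Recog.JOneSquare.jDeg; split <;> rfl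
    set n := Recog.JOneSquare.jDeg p / 2
    have hn : 0 < n := by
      have := hF.pos; omega
    have e0 := hF.conj_pow (2 * n)
    rw [← h0, hF.hh, one_mul, inv_one, mul_one] at e0
    nth_rewrite 1 [← pow_one y] at e0
    rw [pow_eq_pow_iff_modEq, hF.oy, h0, mul_comm, pow_mul] at e0
    have e1 : ((k : ZMod p) ^ n) * (k : ZMod p) ^ n = 1 := by
      rw [← pow_two]
      have := (ZMod.natCast_eq_natCast_iff _ _ p).2 e0
      push_cast at this
      rw [← this]
    rcases mul_self_eq_one_iff.1 e1 with e2 | e2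
    · refine hF.dist 0 hF.pos n (by omega) (by omega) ?_
      rw [pow_zero, pow_eq_pow_iff_modEq, hF.oy]
      refine (ZMod.natCast_eq_natCast_iff _ _ p).1 ?_
      push_cast
      exact e2.symm
    · refine hh.no_real_prime hπ hpπ (x := y) (g := h ^ n) hF.oy ?_
      rw [hF.conj_pow, ← mul_eq_one_iff_eq_inv, ← pow_succ, ← orderOf_dvd_iff_pow_eq_one, hF.oy,
        ← ZMod.natCast_eq_zero_iff]
      push_cast
      rw [e2]; ring
  rcases hcases with rfl | rfl | rfl | rfl | rfl
  · refine small (mk (Equiv.swap 0 1 * Equiv.swap 1 2) (by decide))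
      (mk (Equiv.swap 0 1 * Equiv.swap 3 4) (by decide)) (orderOf_eq_prime (Subtype.ext ?_) ?_) (Subtype.ext ?_)
    <;> simp only [mk, ne_eq, Subtype.ext_iff] <;> decide
  · refine small (mk (Equiv.swap 0 1 * Equiv.swap 1 2 * Equiv.swap 2 3 * Equiv.swap 3 4) (by decide))
      (mk (Equiv.swap 1 4 * Equiv.swap 2 3) (by decide)) (orderOf_eq_prime (Subtype.ext ?_) ?_) (Subtype.ext ?_)
    <;> simp only [mk, ne_eq, Subtype.ext_iff] <;> decide
  · exact big (Or.inl rfl)
  · exact big (Or.inr (Or.inl rfl))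
  · exact big (Or.inr (Or.inr rfl))

end Cfsg.Agent.Invol.PiHom
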