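import Cfsg.Agent.Lib.Invol.PiHom.Reduce
import Cfsg.Agent.Lib.Invol.PiHom.Models
import Cfsg.Agent.Lib.Invol.PiHom.Ree.Real
import Cfsg.Agent.Lib.Invol.CycTI.Main
import Cfsg.Agent.Lib.Classical.DicksonCentral

/-!
`π`-homogeneous groups with abelian or dihedral Sylow 2-subgroups are `π'`-closed.
-/

set_option autoImplicit false
set_option linter.unusedSectionVars false
set_option linter.style.haveILetI false

namespace Cfsg.Agent.Invol.PiHom

open Subgroup
open Cfsg.Agent.Invol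
open Cfsg.Agent.Invol.CycTI.Ree (Sys)
open scoped _root_.Classical

universe u v

variable {π : Set ℕ}

/-- The facts on `L₂(3ᵉ)`. -/
theorem psl3 {F : Type} [Field F] [Fintype F] {n : ℕ} (hF : Fintype.card F = 3 ^ n) :
    Ree.Psl3 (Matrix.ProjectiveSpecialLinearGroup (Fin 2) F) := by
  haveI : Fact (Nat.Prime 3) := ⟨Nat.prime_three⟩
  haveI : CharP F 3 := charP_of_card_eq_prime_pow hF
  set D := Dickson.pslData (F := F) 3
  refine ⟨fun y k hy hyo hy3 hc hky => ?_, fun k j hk => ?_⟩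
  · have hyp : y ^ 3 ≠ 1 := fun e => hy3 (by rw [orderOf_eq_prime e hy])
    have hy2 : y * y ≠ 1 := CycTI.Ree.Sys.sq_ne_one hyo hy
    have hC := Dickson.centralizer_eq_tor 3 hy (Or.inr hy2)
    refine (D.semi_flip hy hyp ?_ ?_).2 y (D.self y)
    · show _ ∈ Dickson.tor y
      rw [← hC]
      exact mem_centralizer_singleton_iff.2 hc.eq
    · show k ∉ Dickson.tor y
      rw [← hC]
      exact fun h => hky (mem_centralizer_singleton_iff.1 h)
  · by_contra h3
    have hk1 : k ≠ 1 := fun e => h3 (by rw [e, one_pow])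
    refine D.semi_coprime hk1 h3 ?_
    obtain ⟨i, -, hi⟩ := (Nat.dvd_prime_pow Nat.prime_three).1 (orderOf_dvd_of_pow_eq_one hk)
    rw [hi]
    refine dvd_pow_self 3 fun h0 => hk1 ?_
    rw [h0, pow_zero, orderOf_eq_one_iff] at hi
    exact hi

variable {G : Type u} [Group G] [Finite G]

/-- A group of Ree type has no homogeneity for an odd prime of its order. -/
theorem coPi_ree {P : Type v} [Group P] (X : Sys G P) (hP : Ree.Psl3 P) (hπ : OddSet π) (hh : Hom π G) :
    CoPiNum π (Nat.card G) := by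
  intro p hp hpd hpπ
  haveI := Fact.mk hp
  haveI := X.S.lp.finiteP
  haveI : Fintype G := Fintype.ofFinite G
  have hp2 := (hπ p hpπ).2
  have hcase : p = 3 ∨ p ∣ X.m ∨ p ∣ X.r ∨ p ∣ X.q ^ 2 - X.q + 1 := by
    rw [X.card_G] at hpd
    rcases hp.dvd_mul.1 hpd with h | h
    · have h' : p ∣ X.q * (X.q ^ 2 - 1) := by
        rcases hp.dvd_mul.1 h with h | h
        · exact (hp.dvd_of_dvd_pow h).mul_right _
        · exact h.mul_left _
      rcases X.prime_cases hp h' with h | h | h | h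
      · exact absurd h hp2
      · exact Or.inl h
      · exact Or.inr (Or.inl h)
      · exact Or.inr (Or.inr (Or.inl h))
    · exact Or.inr (Or.inr (Or.inr h))
  rcases hcase with rfl | hm | hr | hw
  · obtain ⟨y, hy, hy1⟩ := Ree.exists_y X
    have hU : PiNum π (Nat.card ↥X.S.Um) := by
      rw [X.card_Um, X.q_three]
      intro r hr' hrd
      rwa [(Nat.prime_dvd_prime_iff_eq hr' Nat.prime_three).1 (hr'.dvd_of_dvd_pow hrd)]
    refine hh.not_move hπ hU (d := X.ι y) (w := X.S.w) ?_ ?_ (X.S.w_y hy)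
    · refine mem_normalizer_iff.2 fun a => ⟨?_, fun h => ?_⟩
      · rintro ⟨k, hk, rfl⟩
        exact ⟨y * k * y⁻¹, X.S.lp.K.Y_norm y hy k hk, by simp [map_mul, map_inv]⟩
      · obtain ⟨k, hk, e⟩ := h
        refine ⟨y⁻¹ * k * y, by simpa using X.S.lp.K.Y_norm y⁻¹ (inv_mem hy) k hk, ?_⟩
        simp only [map_mul, map_inv, e]
        group
    · intro hc
      refine hy1 ((Subgroup.mem_bot (G := P)).1 ?_)
      rw [← X.S.lp.U_inf_Y]
      refine ⟨?_, hy⟩
      obtain ⟨k, hk, hk1⟩ : ∃ k ∈ X.S.lp.K.U, k ≠ 1 := by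
        by_contra hh'
        push Not at hh'
        have h := X.S.lp.K.card_U
        rw [(eq_bot_iff_forall _).2 hh', card_bot] at h
        have := X.S.lp.q_ge
        omega
      refine X.S.lp.cent_root hk hk1 (X.S.B.inj ?_)
      rw [map_mul, map_mul]
      exact (mem_centralizer_iff.1 hc _ ⟨k, hk, rfl⟩).symm
  · obtain ⟨⟨y, hy⟩, hyo⟩ := exists_prime_orderOf_dvd_card' (G := ↥X.S.lp.K.Y) p (by rw [X.S.lp.card_Y]; exact hm)
    rw [Subgroup.orderOf_mk] at hyo
    exact hh.no_real_prime hπ hpπ (x := X.ι y) ((Ree.orderOf_ι X y).trans hyo) (X.S.w_y hy)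
  · obtain ⟨⟨z, hz⟩, hzo⟩ := exists_prime_orderOf_dvd_card' (G := ↥X.S.lp.D.Y) p (by rw [X.S.lp.D.card_Y]; exact hr)
    rw [Subgroup.orderOf_mk] at hzo
    refine hh.no_real_prime hπ hpπ (x := X.ι z) (g := X.ι X.S.lp.D.w) ((Ree.orderOf_ι X z).trans hzo) ?_
    rw [← map_inv, ← map_inv, ← map_mul, ← map_mul, X.S.lp.D.w_Y z hz]
  · obtain ⟨x, hx, hi⟩ := Ree.exists_real_prime X hP hp hw
    exact hh.no_real_prime hπ hpπ hx hi

/-- The system of a group of Ree type from Ward's theorem. -/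
theorem exists_sys [IsSimpleGroup G] (hG : ¬ IsMulCommutative G) (S : Sylow 2 G)
    (h8 : Nat.card ↥(S : Subgroup G) = 8) (hel : ∀ x ∈ (S : Subgroup G), x * x = 1) {t : G} (ht : orderOf t = 2)
    (hodd : Odd (centralizer ({t} : Set G)).index) {L : Subgroup G}
    (hL : Cfsg.IsInternalDirectProduct (zpowers t) L (centralizer ({t} : Set G)))
    {F : Type} [Field F] [Fintype F] {m : ℕ} (hm : 1 ≤ m) (hF : Fintype.card F = 3 ^ (2 * m + 1))
    (e : ↥L ≃* Matrix.ProjectiveSpecialLinearGroup (Fin 2) F)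
    (hord : Nat.card G = (3 ^ (2 * m + 1)) ^ 3 * ((3 ^ (2 * m + 1)) ^ 3 + 1) * (3 ^ (2 * m + 1) - 1)) :
    Nonempty (Sys G (Matrix.ProjectiveSpecialLinearGroup (Fin 2) F)) := by
  obtain ⟨-, -, hcomm, hinf, hsup⟩ := id hL
  let ι : Matrix.ProjectiveSpecialLinearGroup (Fin 2) F →* G := L.subtype.comp e.symm.toMonoidHom
  have hmem : ∀ k, ι k ∈ L := fun k => (e.symm k).2
  have htc : ∀ k, ι k * t = t * ι k := fun k => (hcomm t (mem_zpowers t) _ (hmem k)).symm
  have hinj : Function.Injective ι := Subtype.val_injective.comp e.symm.injective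
  have hn : L ≤ normalizer (zpowers t : Set G) := fun k hk => centralizer_le_normalizer _
    (mem_centralizer_iff.2 fun d hd => hcomm d hd k hk)
  have hcover : ∀ c : G, c * t = t * c → ∃ k, c = ι k ∨ c = t * ι k := by
    intro c hc
    have hc' : c ∈ zpowers t ⊔ L := by rw [hsup]; exact mem_centralizer_singleton_iff.2 hc
    rw [← SetLike.mem_coe, coe_mul_of_right_le_normalizer_left _ _ hn] at hc'
    obtain ⟨d, hd, k, hk, rfl⟩ := hc'
    obtain ⟨i, rfl⟩ := mem_zpowers_iff.1 hd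
    refine ⟨e ⟨k, hk⟩, ?_⟩
    show t ^ i * k = ι (e ⟨k, hk⟩) ∨ t ^ i * k = t * ι (e ⟨k, hk⟩)
    rw [show ι (e ⟨k, hk⟩) = k by simp [ι], ← zpow_mod_orderOf, ht]
    rcases (show i % ((2 : ℕ) : ℤ) = 0 ∨ i % ((2 : ℕ) : ℤ) = 1 by omega) with h | h
      <;> simp only [Nat.cast_ofNat] at h ⊢ <;> simp [h]
  have htnot : ∀ k, ι k ≠ t := fun k hk => by
    have h1 : t ∈ zpowers t ⊓ L := ⟨mem_zpowers t, hk ▸ hmem k⟩
    rw [hinf, mem_bot] at h1
    rw [h1, orderOf_one] at ht
    norm_num at ht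
  have h8F : Fintype.card F % 8 = 3 := by
    rw [hF, pow_succ, pow_mul, Nat.mul_mod, Nat.pow_mod]; norm_num
  have h27 : 27 ≤ Fintype.card F := by
    rw [hF]; exact le_trans (show 27 ≤ 3 ^ 3 by norm_num) (Nat.pow_le_pow_right (by norm_num) (by omega))
  obtain ⟨D, -, hDq⟩ := JankoWard.PSL.exists_lData_lChars F (Or.inl h8F) (by omega)
  obtain ⟨pk⟩ := AbelTwo.ReeAbel.exists_pack (F := F) (by omega)
  have hδ : D.δ = -1 := by
    rcases D.hδ with h | h
    · exfalso
      have h1 := D.hq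
      obtain ⟨d, hd⟩ := D.r_odd
      rw [h, hDq] at h1
      omega
    · exact h
  let lp : AbelTwo.ReeTrans.LPack (Matrix.ProjectiveSpecialLinearGroup (Fin 2) F) :=
    { D := D
      K := hDq ▸ pk
      e := 2 * m + 1
      hqe := hDq.trans hF
      q_ge := hDq ▸ h27
      hδ := hδ
      rigid := fun k hk hk1 a j ha h => AbelTwo.psl_three_rigid hF hk hk1 ha h }
  let B : JankoWard.Base G (Matrix.ProjectiveSpecialLinearGroup (Fin 2) F) :=
    { D := D, t := t, ι := ι, inj := hinj, ht := ht, hodd := hodd, tc := htc, cover := hcover, t_not := htnot }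
  have A := JankoWard.Amb.of_sylow hG S h8 hel
  obtain ⟨loc⟩ := B.exists_locals A
  let T : AbelTwo.ReeTrans.Data G (Matrix.ProjectiveSpecialLinearGroup (Fin 2) F) :=
    { lp := lp, B := B, hBD := rfl, loc := loc, amb := A
      card_G := by
        show Nat.card G = D.q ^ 3 * (D.q ^ 3 + 1) * (D.q - 1)
        rw [hDq, hF]; exact hord }
  obtain ⟨Q, hc, hQ, hUQ, hT⟩ := T.exists_sylow
  exact ⟨{ S := T, Q := Q, hc := hc, hQ := hQ, hUQ := hUQ, hT := hT }⟩

theorem coPi_equiv {H : Type} [Group H] [Finite H] (e : G ≃* H) (hh : Hom π G)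
    (hH : Hom π H → CoPiNum π (Nat.card H)) : CoPiNum π (Nat.card G) := by
  rw [Nat.card_congr e.toEquiv]
  exact hH (Hom.equiv e hh)

/-- The simple groups. -/
theorem simpleInput (hπ : OddSet π) : SimpleInput.{u} π := by
  intro Q _ _ _ hQ hcase hh
  rcases hcase with hab | ⟨F, i, j, h3, ⟨e⟩⟩ | ⟨e⟩
  · haveI : Fact (Nat.Prime 2) := ⟨Nat.prime_two⟩
    let S : Sylow 2 Q := default
    have h2 := ThreeFree.two_dvd_card hQ
    rcases AbelTwo.trichotomy hQ h2 S (hab S) with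
      ⟨F, i, j, n, hn, hF, ⟨e⟩⟩ | ⟨F, i, j, -, h5, -, ⟨e⟩⟩ | ⟨h8, hE, hJ⟩
    · exact coPi_equiv e hh (coPi_psl hπ (by
        rw [hF]
        exact lt_of_lt_of_le (by norm_num : 3 < 2 ^ 2) (Nat.pow_le_pow_right two_pos hn)))
    · exact coPi_equiv e hh (coPi_psl hπ (by omega))
    · obtain ⟨⟨t, htS⟩, ht⟩ := exists_prime_orderOf_dvd_card' (G := ↥(S : Subgroup Q)) 2 (by rw [h8]; norm_num)
      rw [Subgroup.orderOf_mk] at ht
      obtain ⟨hodd, L, hL, F, i, j, ⟨e⟩, h5 | ⟨m, hm, hF, hord⟩⟩ :=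
        JankoWard.ward Q inferInstance hQ S h8 hE hJ t ht
      · obtain ⟨e'⟩ := (AbelTwo.j1_of_five S (hab S) h8 ht hL h5 e).1
        exact coPi_equiv (H := Recog.JOneSquare.J) e' hh (coPi_j hπ)
      · obtain ⟨X⟩ := exists_sys hQ S h8 hE ht hodd hL hm hF e hord
        exact coPi_ree X (psl3 hF) hπ hh
  · exact coPi_equiv e hh (coPi_psl hπ h3)
  · exact coPi_equiv (_root_.Classical.choice e) hh (coPi_seven hπ)

/-- `π`-homogeneous groups with abelian or dihedral Sylow 2-subgroups are `π'`-closed. -/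
theorem closed_main (hπ : OddSet π) (h2 : ∀ S : Sylow 2 G, IsMulCommutative S ∨ ∃ n : ℕ,
    Nonempty ((S : Subgroup G) ≃* DihedralGroup n)) (hh : Hom π G) : Closed π G :=
  closed_of_simple hπ (simpleInput hπ) _ G rfl hh (twoShape_of_sylow h2)

end Cfsg.Agent.Invol.PiHom
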