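import Cfsg.Agent.Lib.Invol.PiHom.Basic
import Cfsg.Agent.Lib.Invol.CentSix.SolvSmall
import Cfsg.Agent.Lib.Classical.DicksonFacts
import Cfsg.Agent.S0483

/-!
The reduction of the closure of a `π`-homogeneous group with abelian or dihedral Sylow 2-subgroups to the simple groups.
-/

set_option autoImplicit false
set_option linter.unusedSectionVars false
set_option linter.style.haveILetI false

namespace Cfsg.Agent.Invol.PiHom

open Subgroup
open scoped _root_.Classical Pointwise

universe u

/-- What is needed from the simple groups. -/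
def SimpleInput (π : Set ℕ) : Prop :=
  ∀ (Q : Type u) [Group Q] [Finite Q] [IsSimpleGroup Q], ¬ IsMulCommutative Q →
    ((∀ S : Sylow 2 Q, IsMulCommutative ↥(S : Subgroup Q)) ∨
      (∃ (F : Type) (_ : Field F) (_ : Fintype F), 3 < Fintype.card F ∧
        Nonempty (Q ≃* Matrix.ProjectiveSpecialLinearGroup (Fin 2) F)) ∨
      Nonempty (Q ≃* ↥(alternatingGroup (Fin 7)))) →
    Hom π Q → CoPiNum π (Nat.card Q)

variable {π : Set ℕ} {G : Type u} [Group G] [Finite G]

/-- The `π`-part of the core data of a normal closed subgroup. -/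
theorem split_core (hπ : OddSet π) {N : Subgroup G} [N.Normal] (hN : Closed π ↥N) :
    ∃ K H : Subgroup G, K.Normal ∧ K ≤ N ∧ H ≤ N ∧ CoPiNum π (Nat.card ↥K) ∧ PiNum π (K.relIndex N) ∧
      Nat.card ↥H = K.relIndex N ∧ N ≤ K ⊔ H ∧ Group.IsSolvable ↥H := by
  obtain ⟨K₀, hchar, hK, hi⟩ := closed_elim hN
  haveI := hchar
  obtain ⟨Y, hY⟩ := exists_right_complement'_of_coprime (N := K₀) (coprime_of_piNum hi hK).symm
  refine ⟨K₀.map N.subtype, Y.map N.subtype, ConjAct.normal_of_characteristic_of_normal, map_subtype_le _,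
    map_subtype_le _, by rwa [card_map_of_injective N.subtype_injective], ?_, ?_, ?_, ?_⟩
  · rwa [show (K₀.map N.subtype).relIndex N = K₀.index by
      rw [relIndex, subgroupOf, comap_map_eq_self_of_injective N.subtype_injective]]
  · rw [card_map_of_injective N.subtype_injective, show (K₀.map N.subtype).relIndex N = K₀.index by
      rw [relIndex, subgroupOf, comap_map_eq_self_of_injective N.subtype_injective]]
    exact hY.symm.index_eq_card.symm
  · rw [← Subgroup.map_sup, hY.sup_eq_top, ← MonoidHom.range_eq_map, range_subtype]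
  · refine GW.Klein.isSolvable_of_odd (hπ.odd_of_pi ?_)
    rwa [card_map_of_injective N.subtype_injective, ← hY.symm.index_eq_card]

/-- The Frattini argument for a complement. -/
theorem exists_norm (hπ : OddSet π) {K H : Subgroup G} [K.Normal] (hK : CoPiNum π (Nat.card ↥K))
    (hH : PiNum π (Nat.card ↥H)) {X : Subgroup G} (hle : H ≤ X) (hX : X ≤ K ⊔ H) {g : G}
    (hg : ∀ x ∈ X, g * x * g⁻¹ ∈ X) : ∃ k ∈ K, k⁻¹ * g ∈ normalizer (H : Set G) := by
  have hgH : MulAut.conj g • H ≤ K ⊔ H := by
    intro y hy
    obtain ⟨h, hh, rfl⟩ := Subgroup.mem_smul_pointwise_iff_exists _ _ _ |>.1 hy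
    exact hX (hg h (hle hh))
  obtain ⟨k, hk, hkH⟩ := Grp.exists_conj_of_le_sup (N := K) (H := H) (K := MulAut.conj g • H)
    (by rw [normalizer_eq_top]; exact le_top) hgH (Grp.card_conj_smul g H) (coprime_of_piNum hH hK).symm
    (Or.inr (GW.Klein.isSolvable_of_odd (hπ.odd_of_pi hH)))
  refine ⟨k, hk, Grp.mem_normalizer_iff_smul.2 ?_⟩
  rw [← Grp.conj_smul_conj_smul, ← hkH, Grp.conj_smul_conj_smul, inv_mul_cancel, map_one, one_smul]

/-- Extension by a `π'`-quotient. -/
theorem closed_step (hπ : OddSet π) (hh : Hom π G) (hsub : ∀ X : Subgroup G, X ≠ ⊤ → Closed π ↥X)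
    {N : Subgroup G} [N.Normal] (hN : N ≠ ⊤) (hQ : CoPiNum π N.index) : Closed π G := by
  obtain ⟨K, H, hKn, hKN, hHN, hK, hi, hHc, hsup, -⟩ := split_core hπ (hsub N hN)
  haveI := hKn
  have hH : PiNum π (Nat.card ↥H) := by rw [hHc]; exact hi
  set M := normalizer (H : Set G) with hMdef
  by_cases hM : M = ⊤
  · haveI hHn : H.Normal := normalizer_eq_top_iff.1 hM
    set C := centralizer (H : Set G) with hCdef
    by_cases hC : C = ⊤
    · -- a central Hall subgroup
      have hidx : CoPiNum π H.index := by
        have hKH : K ⊔ H = N := le_antisymm (sup_le hKN hHN) hsup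
        have hdis : K ⊓ H = ⊥ :=
          Grp.inf_eq_bot_of_coprime (coprime_of_piNum hH hK).symm
        have hc := Grp.card_sup_mul_card_inf_normal (H := K) (N := H)
        rw [hKH, hdis, card_bot, mul_one] at hc
        have h1 := N.card_mul_index
        have h2 := H.card_mul_index
        rw [← h1, hc] at h2
        have h3 : H.index = Nat.card ↥K * N.index := Nat.eq_of_mul_eq_mul_left Nat.card_pos (h2.trans (by ring))
        rw [h3]
        exact hK.mul hQ
      obtain ⟨Y, hY⟩ := exists_right_complement'_of_coprime (N := H) (coprime_of_piNum hH hidx)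
      haveI : Y.Normal := by
        rw [← normalizer_eq_top_iff, eq_top_iff, ← hY.sup_eq_top]
        refine sup_le (fun h hh' => ?_) le_normalizer
        refine mem_normalizer_iff.2 fun y => ?_
        have hc : ∀ z : G, h * z * h⁻¹ = z := fun z => by
          rw [mul_inv_eq_iff_eq_mul]
          exact mem_centralizer_iff.1 (show z ∈ C by rw [hC]; exact mem_top z) h hh'
        rw [hc]
      refine closed_of (K := Y) ?_ ?_
      · rwa [← hY.symm.index_eq_card]
      · rwa [hY.index_eq_card]
    · obtain ⟨K₁, hchar, hK₁, hi₁⟩ := closed_elim (hsub C hC)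
      haveI := hchar
      haveI : (K₁.map C.subtype).Normal := ConjAct.normal_of_characteristic_of_normal
      refine closed_of (K := K₁.map C.subtype) (by rwa [card_map_of_injective C.subtype_injective]) ?_
      rw [index_map_subtype]
      refine hi₁.mul ?_
      have hHb : H ≠ ⊥ := fun h => hC (by
        rw [hCdef, h, eq_top_iff]
        refine fun x _ => mem_centralizer_iff.2 fun y hy => ?_
        rw [SetLike.mem_coe, mem_bot] at hy
        rw [hy, one_mul, mul_one])
      have := hh H hHb hH
      rwa [← hMdef, hM, relIndex_top_right] at this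
  · obtain ⟨K₁, hchar, hK₁, hi₁⟩ := closed_elim (hsub M hM)
    haveI := hchar
    set L := K ⊔ K₁.map M.subtype with hL
    have hKM : ∀ g : G, ∃ k ∈ K, k⁻¹ * g ∈ M := fun g =>
      exists_norm hπ hK hH hHN hsup fun x hx => (inferInstance : N.Normal).conj_mem x hx g
    have hMn : M ≤ normalizer (L : Set G) := by
      intro g hg
      have h1 : g ∈ normalizer ((K₁.map M.subtype : Subgroup G) : Set G) :=
        le_normalizer_map M.subtype ⟨⟨g, hg⟩, by rw [normalizer_eq_top]; exact mem_top _, rfl⟩
      rw [Grp.mem_normalizer_iff_smul] at h1 ⊢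
      rw [hL, Subgroup.smul_sup, h1, Grp.mem_normalizer_iff_smul.1 (show g ∈ normalizer (K : Set G) by
        rw [normalizer_eq_top]; exact mem_top g)]
    haveI : L.Normal := by
      rw [← normalizer_eq_top_iff, eq_top_iff]
      intro g _
      obtain ⟨k, hk, hkg⟩ := hKM g
      have := mul_mem (le_normalizer (show k ∈ L from mem_sup_left hk)) (hMn hkg)
      rwa [mul_inv_cancel_left] at this
    refine closed_of (K := L) ?_ ?_
    · have hc := Grp.card_sup_mul_card_inf_normal (H := K₁.map M.subtype) (N := K)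
      rw [sup_comm, ← hL] at hc
      refine (hK₁.mul hK).of_dvd ⟨Nat.card ↥(K₁.map M.subtype ⊓ K : Subgroup G), ?_⟩
      rw [hc, card_map_of_injective M.subtype_injective]
    · have htop : M ⊔ L = ⊤ := by
        rw [eq_top_iff]
        intro g _
        obtain ⟨k, hk, hkg⟩ := hKM g
        have := mul_mem (mem_sup_right (S := M) (show k ∈ L from mem_sup_left hk)) (mem_sup_left (T := L) hkg)
        rwa [mul_inv_cancel_left] at this
      rw [← relIndex_top_right, ← htop, relIndex_sup_right]
      refine hi₁.of_dvd ?_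
      rw [show K₁.index = (K₁.map M.subtype).relIndex M by
        rw [relIndex, subgroupOf, comap_map_eq_self_of_injective M.subtype_injective]]
      exact relIndex_dvd_of_le_left M le_sup_right

/-- The quotient by a closed normal subgroup is homogeneous. -/
theorem hom_quot (hπ : OddSet π) (hh : Hom π G) {N : Subgroup G} [N.Normal] (hN : Closed π ↥N) :
    Hom π (G ⧸ N) := by
  obtain ⟨K, H₀, hKn, hKN, -, hK, hi, -, -, -⟩ := split_core hπ hN
  haveI := hKn
  intro Xb hXb hc
  set f := QuotientGroup.mk' N with hf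
  set X := Xb.comap f with hX
  have hNX : N ≤ X := fun n hn => by
    show f n ∈ Xb
    rw [show f n = 1 from (QuotientGroup.eq_one_iff n).2 hn]
    exact one_mem _
  have hKX : K ≤ X := hKN.trans hNX
  have hidx : PiNum π (K.relIndex X) := by
    rw [← relIndex_mul_relIndex K N X hKN hNX]
    refine hi.mul ?_
    have e : N.relIndex X = Nat.card ↥Xb := by
      have h1 : N = (⊥ : Subgroup (G ⧸ N)).comap f := by
        rw [MonoidHom.comap_bot, hf, QuotientGroup.ker_mk']
      calc N.relIndex X = ((⊥ : Subgroup (G ⧸ N)).comap f).relIndex X := by rw [← h1]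
        _ = (⊥ : Subgroup (G ⧸ N)).relIndex (X.map f) := relIndex_comap _ _ _
        _ = Nat.card ↥(X.map f) := relIndex_bot_left _
        _ = _ := by rw [hX, map_comap_eq_self_of_surjective (QuotientGroup.mk'_surjective N)]
    rwa [e]
  obtain ⟨Y₀, hY₀⟩ := exists_right_complement'_of_coprime (N := K.subgroupOf X)
    (show (Nat.card ↥(K.subgroupOf X)).Coprime (K.subgroupOf X).index by
      rw [Nat.card_congr (subgroupOfEquivOfLe hKX).toEquiv]
      exact (coprime_of_piNum hidx hK).symm)
  set Y := Y₀.map X.subtype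
  have hYc : PiNum π (Nat.card ↥Y) := by
    rw [card_map_of_injective X.subtype_injective, ← hY₀.symm.index_eq_card]
    exact hidx
  have hsup : X ≤ K ⊔ Y := by
    have := congrArg (map X.subtype) hY₀.sup_eq_top
    rw [Subgroup.map_sup, map_subgroupOf_eq_of_le hKX, ← MonoidHom.range_eq_map, range_subtype] at this
    exact this.ge
  have hfK : ∀ k ∈ K, f k = 1 := fun k hk => (QuotientGroup.eq_one_iff k).2 (hKN hk)
  have hXY : Xb ≤ Y.map f := by
    intro x hx
    obtain ⟨g, rfl⟩ := QuotientGroup.mk'_surjective N x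
    have hg : g ∈ K ⊔ Y := hsup hx
    rw [← SetLike.mem_coe, normal_mul, Set.mem_mul] at hg
    obtain ⟨k, hk, y, hy, rfl⟩ := hg
    exact ⟨y, hy, by rw [map_mul, hfK k hk, one_mul]⟩
  have hYb : Y ≠ ⊥ := fun h => hXb (le_bot_iff.1 (hXY.trans (by rw [h, Subgroup.map_bot])))
  refine (hh Y hYb hYc).of_dvd ?_
  have hN' : normalizer (Xb : Set (G ⧸ N)) = (normalizer (Y : Set G)).map f := by
    refine le_antisymm (fun x hx => ?_) ?_
    · obtain ⟨g, rfl⟩ := QuotientGroup.mk'_surjective N x
      obtain ⟨k, hk, hkg⟩ := exists_norm hπ hK hYc (X := X) (map_subtype_le _) hsup (g := g) fun z hz => by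
        show f (g * z * g⁻¹) ∈ Xb
        rw [map_mul, map_mul, map_inv]
        exact (mem_normalizer_iff.1 hx _).1 hz
      exact ⟨_, hkg, by rw [map_mul, map_inv, hfK k hk, inv_one, one_mul]⟩
    · have hYX : Xb = Y.map f := le_antisymm hXY (map_le_iff_le_comap.2 (map_subtype_le _))
      rw [hYX]
      exact le_normalizer_map f
  rw [hN', ← relIndex_comap]
  refine relIndex_dvd_of_le_left _ fun c hc' => ?_
  refine mem_centralizer_iff.2 fun x hx => ?_
  obtain ⟨y, hy, rfl⟩ := hXY hx
  rw [← map_mul, mem_centralizer_iff.1 hc' y hy, map_mul]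

/-- A dihedral group of order two is commutative. -/
theorem comm_of_dihedral_one {R : Type u} [Group R] (e : R ≃* DihedralGroup (2 ^ 0)) : IsMulCommutative R :=
  ⟨⟨fun a b => e.injective (by
    rw [map_mul, map_mul]
    revert a b
    intro a b
    generalize e a = x
    generalize e b = y
    revert x y
    decide)⟩⟩

/-- The reduction. -/
theorem closed_of_simple (hπ : OddSet π) (hS : SimpleInput.{u} π) :
    ∀ (n : ℕ) (G : Type u) [Group G] [Finite G], Nat.card G = n → Hom π G → TwoShape G → Closed π G := by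
  intro n
  induction n using Nat.strong_induction_on with
  | _ n ih =>
  intro G _ _ hn hh h2
  have hsub : ∀ X : Subgroup G, X ≠ ⊤ → Closed π ↥X := fun X hX =>
    ih _ (hn ▸ Grp.card_lt_of_ne_top hX) ↥X rfl (hh.subgroup X) (h2.subgroup X)
  haveI : Fact (Nat.Prime 2) := ⟨Nat.prime_two⟩
  by_cases hperf : commutator G = ⊤
  · rcases subsingleton_or_nontrivial G with hs | hnt
    · haveI : (⊤ : Subgroup G).Normal := inferInstance
      exact closed_of (K := (⊤ : Subgroup G))
        (by rw [card_top, Nat.card_eq_one_iff_unique.2 ⟨hs, ⟨1⟩⟩]; exact coPiNum_one)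
        (by rw [index_top]; exact piNum_one)
    haveI : Group.IsPerfect G := ⟨hperf⟩
    have key : ∀ N : Subgroup G, ∀ _ : N.Normal, N ≠ ⊤ → IsSimpleGroup (G ⧸ N) →
        ((∀ S : Sylow 2 (G ⧸ N), IsMulCommutative ↥(S : Subgroup (G ⧸ N))) ∨
          (∃ (F : Type) (_ : Field F) (_ : Fintype F), 3 < Fintype.card F ∧
            Nonempty ((G ⧸ N) ≃* Matrix.ProjectiveSpecialLinearGroup (Fin 2) F)) ∨
          Nonempty ((G ⧸ N) ≃* ↥(alternatingGroup (Fin 7)))) → Closed π G := by
      intro N hNn hN hs hshape
      haveI := hs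
      have hna : ¬ IsMulCommutative (G ⧸ N) := fun hc => by
        refine hN (eq_top_iff.2 (hperf ▸ ?_))
        exact Subgroup.Normal.quotient_commutative_iff_commutator_le.1 hc
      exact closed_step hπ hh hsub hN (hS (G ⧸ N) hna hshape (hom_quot hπ hh (hsub N hN)))
    obtain ⟨S⟩ : Nonempty (Sylow 2 G) := inferInstance
    by_cases hSc : IsMulCommutative ↥(S : Subgroup G)
    · obtain ⟨N, ⟨hNn, hN⟩, hmax⟩ := (Set.toFinite {N : Subgroup G | N.Normal ∧ N ≠ ⊤}).exists_maximal
        ⟨⊥, inferInstance, bot_ne_top⟩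
      haveI := hNn
      haveI : Nontrivial (G ⧸ N) := by
        rw [QuotientGroup.nontrivial_iff]; exact hN
      have hs : IsSimpleGroup (G ⧸ N) := ⟨fun Hb hHb => by
        haveI := hHb
        by_cases ht : Hb.comap (QuotientGroup.mk' N) = ⊤
        · right
          rw [← map_comap_eq_self_of_surjective (QuotientGroup.mk'_surjective N) Hb, ht,
            map_top_of_surjective _ (QuotientGroup.mk'_surjective N)]
        · left
          have hle : N ≤ Hb.comap (QuotientGroup.mk' N) := fun x hx => by
            show (QuotientGroup.mk' N) x ∈ Hb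
            rw [QuotientGroup.mk'_apply, (QuotientGroup.eq_one_iff x).2 hx]; exact one_mem _
          have e := le_antisymm (hmax ⟨inferInstance, ht⟩ hle) hle
          rw [← map_comap_eq_self_of_surjective (QuotientGroup.mk'_surjective N) Hb, e, Subgroup.map_eq_bot_iff,
            QuotientGroup.ker_mk']⟩
      refine key N hNn hN hs (Or.inl fun T => ?_)
      obtain ⟨g, hg⟩ := MulAction.exists_smul_eq (G ⧸ N)
        (S.mapSurjective (f := QuotientGroup.mk' N) (QuotientGroup.mk'_surjective N)) T
      refine ⟨⟨fun a b => Subtype.ext ?_⟩⟩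
      have hcomm : ∀ x ∈ (S : Subgroup G).map (QuotientGroup.mk' N),
          ∀ y ∈ (S : Subgroup G).map (QuotientGroup.mk' N), x * y = y * x := by
        rintro _ ⟨a', ha', rfl⟩ _ ⟨b', hb', rfl⟩
        rw [← map_mul, ← map_mul, show a' * b' = b' * a' from
          congrArg (fun z : ↥(S : Subgroup G) => (z : G)) (hSc.is_comm.comm ⟨a', ha'⟩ ⟨b', hb'⟩)]
      have ha := a.2
      have hb := b.2
      simp only [← hg] at ha hb
      obtain ⟨a', ha', ea'⟩ := ha
      obtain ⟨b', hb', eb'⟩ := hb
      show (a : G ⧸ N) * b = b * a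
      rw [← ea', ← eb']
      exact (map_mul _ a' b').symm.trans ((congrArg _ (hcomm a' ha' b' hb')).trans (map_mul _ b' a'))
    · obtain ⟨m, ⟨e⟩⟩ := (h2 S S.isPGroup').resolve_left hSc
      have hm : 2 ≤ 2 ^ m := by
        rcases Nat.eq_zero_or_pos m with rfl | h
        · exact absurd (comm_of_dihedral_one e) hSc
        · exact Nat.le_self_pow (by omega) 2
      have hsimp : IsSimpleGroup (G ⧸ Cfsg.oddCore G) ∧
          ((∃ (F : Type) (_ : Field F) (_ : Fintype F), 3 < Fintype.card F ∧
            Nonempty ((G ⧸ Cfsg.oddCore G) ≃* Matrix.ProjectiveSpecialLinearGroup (Fin 2) F)) ∨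
          Nonempty ((G ⧸ Cfsg.oddCore G) ≃* ↥(alternatingGroup (Fin 7)))) := by
        rcases Cfsg.Agent.S0483.result S (2 ^ m) hm ⟨e⟩ with ⟨F, i, j, -, h3, he⟩ | he
        · obtain ⟨e'⟩ := he
          haveI := Cfsg.Agent.Classical.PSL_isSimple (F := F) (n := 2) le_rfl fun _ => by omega
          haveI : Nontrivial (G ⧸ Cfsg.oddCore G) := e'.toEquiv.nontrivial
          exact ⟨IsSimpleGroup.isSimpleGroup_of_surjective e'.symm.toMonoidHom e'.symm.surjective,
            Or.inl ⟨F, i, j, h3, ⟨e'⟩⟩⟩
        · have e' := _root_.Classical.choice he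
          haveI : IsSimpleGroup ↥(alternatingGroup (Fin 7)) := alternatingGroup.isSimpleGroup (by simp)
          haveI : Nontrivial (G ⧸ Cfsg.oddCore G) := e'.toEquiv.nontrivial
          exact ⟨IsSimpleGroup.isSimpleGroup_of_surjective e'.symm.toMonoidHom e'.symm.surjective, Or.inr ⟨e'⟩⟩
      obtain ⟨hs, hshape⟩ := hsimp
      refine key (Cfsg.oddCore G) inferInstance (fun h => ?_) hs (Or.inr hshape)
      haveI := hs
      exact QuotientGroup.nontrivial_iff.1 (inferInstance : Nontrivial (G ⧸ Cfsg.oddCore G)) h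
  · obtain ⟨N, hNco, hle⟩ := (eq_top_or_exists_le_coatom (commutator G)).resolve_left hperf
    haveI : N.Normal := Subgroup.Normal.of_commutator_le G hle
    haveI : Nontrivial (G ⧸ N) := QuotientGroup.nontrivial_iff.2 hNco.1
    haveI : IsSimpleGroup (G ⧸ N) := ⟨fun Hb _ => by
      have hle' : N ≤ Hb.comap (QuotientGroup.mk' N) := fun x hx => by
        show (QuotientGroup.mk' N) x ∈ Hb
        rw [QuotientGroup.mk'_apply, (QuotientGroup.eq_one_iff x).2 hx]; exact one_mem _
      rcases hle'.lt_or_eq with h | h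
      · right
        rw [← map_comap_eq_self_of_surjective (QuotientGroup.mk'_surjective N) Hb, hNco.2 _ h,
          map_top_of_surjective _ (QuotientGroup.mk'_surjective N)]
      · left
        rw [← map_comap_eq_self_of_surjective (QuotientGroup.mk'_surjective N) Hb, ← h, Subgroup.map_eq_bot_iff,
          QuotientGroup.ker_mk']⟩
    letI : CommGroup (G ⧸ N) := { (inferInstance : Group (G ⧸ N)) with
      mul_comm := (Subgroup.Normal.quotient_commutative_iff_commutator_le.2 hle).is_comm.comm }
    have hp : N.index.Prime := IsSimpleGroup.prime_card (α := G ⧸ N)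
    by_cases hpπ : N.index ∈ π
    · obtain ⟨K, hchar, hK, hi⟩ := closed_elim (hsub N hNco.1)
      haveI := hchar
      haveI : (K.map N.subtype).Normal := ConjAct.normal_of_characteristic_of_normal
      refine closed_of (K := K.map N.subtype) (by rwa [card_map_of_injective N.subtype_injective]) ?_
      rw [index_map_subtype]
      exact hi.mul fun r hr hrd => by rwa [(Nat.prime_dvd_prime_iff_eq hr hp).1 hrd]
    · exact closed_step hπ hh hsub hNco.1 fun r hr hrd => by
        rwa [(Nat.prime_dvd_prime_iff_eq hr hp).1 hrd]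

end Cfsg.Agent.Invol.PiHom
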